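import Mathlib

/-! Products of the factors of a symmetric tensor over a purely inseparable extension. -/

set_option autoImplicit false

open Module

namespace Groth.Agent.ChowTS

theorem sum_mem_of_pGroup {G α M : Type*} [Group G] [Finite G] [Fintype α] [MulAction G α] [AddCommMonoid M]
    {p : ℕ} [Fact p.Prime] (hG : IsPGroup p G) (hp : ∀ m : M, p • m = 0) (S : AddSubmonoid M) (h : α → M)
    (hinv : ∀ (g : G) a, h (g • a) = h a) (hfix : ∀ a, (∀ g : G, g • a = a) → h a ∈ S) :
    ∑ a, h a ∈ S := by
  classical
  letI : Fintype (Quotient (MulAction.orbitRel G α)) := Fintype.ofFinite _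
  rw [← (MulAction.selfEquivSigmaOrbits G α).symm.sum_comp, Fintype.sum_sigma]
  refine sum_mem fun ω _ => ?_
  have hconst : ∀ b : MulAction.orbit G ω.out,
      h ((MulAction.selfEquivSigmaOrbits G α).symm ⟨ω, b⟩) = h ω.out := by
    rintro ⟨b, g, rfl⟩
    exact hinv g ω.out
  rw [Finset.sum_congr rfl fun b _ => hconst b, Finset.sum_const, Finset.card_univ, ← Nat.card_eq_fintype_card]
  obtain ⟨n, hn⟩ := hG.card_orbit ω.out
  rw [hn]
  rcases n with _ | n
  · rw [pow_zero, one_smul]
    refine hfix _ fun g => ?_
    rw [pow_zero, Nat.card_eq_one_iff_unique] at hn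
    exact congrArg Subtype.val (hn.1.elim (⟨g • ω.out, MulAction.mem_orbit _ g⟩ : MulAction.orbit G ω.out)
      ⟨ω.out, MulAction.mem_orbit_self _⟩)
  · rw [pow_succ', mul_smul, hp]
    exact zero_mem S

theorem pow_finrank_mem_range {k K : Type*} [Field k] [Field K] [Algebra k K] [FiniteDimensional k K]
    [IsPurelyInseparable k K] (a : K) : a ^ finrank k K ∈ Set.range (algebraMap k K) := by
  obtain ⟨q, hq⟩ := ExpChar.exists k
  obtain ⟨n, hn⟩ := IsPurelyInseparable.minpoly_eq_X_pow_sub_C k q a |>.imp fun n h => h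
  obtain ⟨y, hy⟩ := hn
  have hdvd : q ^ n ∣ finrank k K := by
    have := minpoly.degree_dvd (K := k) (x := a) (Algebra.IsIntegral.isIntegral a)
    rwa [hy, Polynomial.natDegree_X_pow_sub_C] at this
  obtain ⟨c, hc⟩ := hdvd
  have h0 := minpoly.aeval k a
  rw [hy, map_sub, map_pow, Polynomial.aeval_X, Polynomial.aeval_C, sub_eq_zero] at h0
  exact ⟨y ^ c, by rw [hc, pow_mul, h0, map_pow]⟩

theorem exists_finrank_eq_pow (k K : Type*) [Field k] [Field K] [Algebra k K] [FiniteDimensional k K]
    [IsPurelyInseparable k K] (q : ℕ) [ExpChar k q] : ∃ n, finrank k K = q ^ n := by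
  obtain ⟨n, hn⟩ := IsPurelyInseparable.finrank_eq_pow k K q
  exact ⟨n, hn⟩

/-- Rotations of the blocks of a decomposition of `Fin d` into `r` blocks of size `q`. -/
@[reducible]
def blockAction {d r q : ℕ} (e : Fin d ≃ Fin r × ZMod q) (κ : Type*) :
    MulAction (Multiplicative (Fin r → ZMod q)) (Fin d → κ) where
  smul g f := fun i => f (e.symm ((e i).1, (e i).2 + g.toAdd (e i).1))
  one_smul f := by funext i; show f _ = f i; simp
  mul_smul g g' f := by
    funext i
    show f _ = f (e.symm ((e (e.symm _)).1, (e (e.symm _)).2 + _))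
    simp [add_assoc]

theorem mul_mem_range_of_symmetric {k K : Type*} [Field k] [Field K] [Algebra k K] [FiniteDimensional k K]
    [IsPurelyInseparable k K] {d : ℕ} (hd : finrank k K ∣ d) {x : PiTensorProduct k fun _ : Fin d => K}
    (hx : ∀ σ : Equiv.Perm (Fin d), PiTensorProduct.reindex k (fun _ : Fin d => K) σ x = x) :
    PiTensorProduct.lift (MultilinearMap.mkPiAlgebra k (Fin d) K) x ∈ Set.range (algebraMap k K) := by
  classical
  obtain ⟨q, hq⟩ := ExpChar.exists k
  obtain ⟨n, hn⟩ := exists_finrank_eq_pow k K q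
  cases hq with
  | zero =>
    rw [one_pow] at hn
    exact Algebra.mem_bot.1 (by rw [Subalgebra.bot_eq_top_of_finrank_eq_one hn]; exact Algebra.mem_top)
  | prime hp =>
    rename_i hchar
    haveI : Fact q.Prime := ⟨hp⟩
    haveI : CharP K q := charP_of_injective_algebraMap (algebraMap k K).injective q
    obtain ⟨r, hr⟩ := hd
    haveI : NeZero (q ^ n) := ⟨pow_ne_zero n hp.ne_zero⟩
    let e : Fin d ≃ Fin r × ZMod (q ^ n) := Fintype.equivOfCardEq (by
      rw [Fintype.card_fin, Fintype.card_prod, Fintype.card_fin, ZMod.card, hr, hn, mul_comm])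
    letI := blockAction e (Fin (finrank k K))
    let b := Module.finBasis k K
    let B := Basis.piTensorProduct (fun _ : Fin d => b)
    have hinv : ∀ (σ : Equiv.Perm (Fin d)) (f : Fin d → Fin (finrank k K)),
        B.repr x (fun i => f (σ.symm i)) = B.repr x f := by
      intro σ f
      conv_lhs => rw [← hx σ, ← B.sum_repr x]
      simp only [B, map_sum, map_smul, Basis.piTensorProduct_apply, PiTensorProduct.reindex_tprod]
      simp only [← Basis.piTensorProduct_apply, Basis.repr_self, Finsupp.coe_finset_sum, Finset.sum_apply,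
        Finsupp.smul_apply, Finsupp.single_apply, smul_eq_mul, mul_ite, mul_one, mul_zero]
      rw [Finset.sum_eq_single f]
      · rw [if_pos rfl]
      · intro g _ hg
        rw [if_neg]
        intro heq
        refine hg (funext fun i => ?_)
        simpa using congrFun heq (σ i)
      · simp
    rw [← B.sum_repr x]
    simp only [map_sum, map_smul, B, Basis.piTensorProduct_apply, PiTensorProduct.lift.tprod,
      MultilinearMap.mkPiAlgebra_apply]
    refine sum_mem_of_pGroup (G := Multiplicative (Fin r → ZMod (q ^ n))) (p := q) ?_ (fun m => ?_)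
      (Subalgebra.toSubmodule (⊥ : Subalgebra k K)).toAddSubmonoid _ (fun g f => ?_) (fun f hf => ?_)
    · refine IsPGroup.of_card (n := n * r) ?_
      rw [Nat.card_eq_fintype_card, Fintype.card_multiplicative, Fintype.card_fun, ZMod.card, Fintype.card_fin,
        pow_mul]
    · rw [nsmul_eq_mul, CharP.cast_eq_zero, zero_mul]
    · let σ : Equiv.Perm (Fin d) :=
        { toFun := fun i => e.symm ((e i).1, (e i).2 - g.toAdd (e i).1)
          invFun := fun i => e.symm ((e i).1, (e i).2 + g.toAdd (e i).1)
          left_inv := fun i => by simp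
          right_inv := fun i => by simp }
      show B.repr x (fun i => f (σ.symm i)) • ∏ i, b (f (σ.symm i)) = _
      rw [hinv σ, σ.symm.prod_comp fun i => b (f i)]
    · have hblock : ∀ i j, f (e.symm (i, j)) = f (e.symm (i, 0)) := by
        intro i j
        have := congrFun (hf (Multiplicative.ofAdd fun _ => j)) (e.symm (i, 0))
        change f (e.symm ((e (e.symm (i, (0 : ZMod (q ^ n))))).1, (e (e.symm (i, (0 : ZMod (q ^ n))))).2 + j)) = _ at this
        simpa using this
      refine Submodule.smul_mem _ _ ?_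
      rw [← e.symm.prod_comp, Fintype.prod_prod_type]
      show _ ∈ (⊥ : Subalgebra k K)
      refine prod_mem fun i _ => ?_
      simp only [hblock i, Finset.prod_const, Finset.card_univ, ZMod.card, ← hn]
      exact Algebra.mem_bot.2 (pow_finrank_mem_range _)

end Groth.Agent.ChowTS
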